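import Cfsg.Agent.L0.Fi22.Cov3T

/-! Generated checks. -/

set_option autoImplicit false
set_option maxRecDepth 100000

namespace Cfsg.Agent.L0.Fi22Cov3

theorem b21 : allR chk 10 21 = true := by decide +kernel
theorem b22 : allR chk 10 22 = true := by decide +kernel
theorem b23 : allR chk 10 23 = true := by decide +kernel
theorem b24 : allR chk 10 24 = true := by decide +kernel
theorem b25 : allR chk 10 25 = true := by decide +kernel
theorem b26 : allR chk 10 26 = true := by decide +kernel
theorem b27 : allR chk 10 27 = true := by decide +kernel
theorem b28 : allR chk 10 28 = true := by decide +kernel
theorem b29 : allR chk 10 29 = true := by decide +kernel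
theorem b30 : allR chk 10 30 = true := by decide +kernel
theorem b31 : allR chk 10 31 = true := by decide +kernel
theorem b32 : allR chk 10 32 = true := by decide +kernel
theorem b33 : allR chk 10 33 = true := by decide +kernel
theorem b34 : allR chk 10 34 = true := by decide +kernel
theorem b35 : allR chk 10 35 = true := by decide +kernel
theorem b36 : allR chk 10 36 = true := by decide +kernel
theorem b37 : allR chk 10 37 = true := by decide +kernel
theorem b38 : allR chk 10 38 = true := by decide +kernel
theorem b39 : allR chk 10 39 = true := by decide +kernel
theorem b40 : allR chk 10 40 = true := by decide +kernel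
theorem b41 : allR chk 10 41 = true := by decide +kernel

end Cfsg.Agent.L0.Fi22Cov3
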