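import Cfsg.Agent.L0.Fi22.Cov3T

/-! Generated checks. -/

set_option autoImplicit false
set_option maxRecDepth 100000

namespace Cfsg.Agent.L0.Fi22Cov3

theorem b42 : allR chk 10 42 = true := by decide +kernel
theorem b43 : allR chk 10 43 = true := by decide +kernel
theorem b44 : allR chk 10 44 = true := by decide +kernel
theorem b45 : allR chk 10 45 = true := by decide +kernel
theorem b46 : allR chk 10 46 = true := by decide +kernel
theorem b47 : allR chk 10 47 = true := by decide +kernel
theorem b48 : allR chk 10 48 = true := by decide +kernel
theorem b49 : allR chk 10 49 = true := by decide +kernel
theorem b50 : allR chk 10 50 = true := by decide +kernel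
theorem b51 : allR chk 10 51 = true := by decide +kernel
theorem b52 : allR chk 10 52 = true := by decide +kernel
theorem b53 : allR chk 10 53 = true := by decide +kernel
theorem b54 : allR chk 10 54 = true := by decide +kernel
theorem b55 : allR chk 10 55 = true := by decide +kernel
theorem b56 : allR chk 10 56 = true := by decide +kernel
theorem b57 : allR chk 10 57 = true := by decide +kernel
theorem b58 : allR chk 10 58 = true := by decide +kernel
theorem b59 : allR chk 10 59 = true := by decide +kernel
theorem b60 : allR chk 10 60 = true := by decide +kernel

end Cfsg.Agent.L0.Fi22Cov3
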