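import Cfsg.Agent.L0.Cover
import Cfsg.Agent.L0.Fi22.Cov3D0
import Cfsg.Agent.L0.Fi22.Cov3D1

/-! Generated action table. -/

set_option autoImplicit false
set_option maxRecDepth 100000

namespace Cfsg.Agent.L0.Fi22Cov3

noncomputable def tree : BT := (.node (.node (.node (.node (.node t0 t16) (.node t8 t24)) (.node (.node t4 t20) (.node t12 t28))) (.node (.node (.node t2 t18) (.node t10 t26)) (.node (.node t6 t22) (.node t14 t30)))) (.node (.node (.node (.node t1 t17) (.node t9 t25)) (.node (.node t5 t21) (.node t13 t29))) (.node (.node (.node t3 t19) (.node t11 t27)) (.node (.node t7 t23) (.node t15 t31)))))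

noncomputable def row : ℕ → ℕ := rowOf tree (nat_lit 5) (nat_lit 31) (nat_lit 216) (nat_lit 0xffffffffffffffffffffffffffffffffffffffffffffffffffffff)

/-- entries: target and label -/
noncomputable def E : ℕ → ℕ → ℕ := pT row (nat_lit 18) (nat_lit 262143)

/-- the relators with their labels -/
def RL : List (List ℕ × ℕ) := [([nat_lit 0, nat_lit 0], nat_lit 0),
  ([nat_lit 1, nat_lit 1], nat_lit 2),
  ([nat_lit 2, nat_lit 2], nat_lit 0),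
  ([nat_lit 3, nat_lit 3], nat_lit 0),
  ([nat_lit 4, nat_lit 4], nat_lit 0),
  ([nat_lit 5, nat_lit 5], nat_lit 0),
  ([nat_lit 6, nat_lit 6], nat_lit 0),
  ([nat_lit 7, nat_lit 7], nat_lit 0),
  ([nat_lit 8, nat_lit 8], nat_lit 0),
  ([nat_lit 0, nat_lit 1, nat_lit 0, nat_lit 1, nat_lit 0, nat_lit 1], nat_lit 0),
  ([nat_lit 0, nat_lit 2, nat_lit 0, nat_lit 2], nat_lit 0),
  ([nat_lit 0, nat_lit 3, nat_lit 0, nat_lit 3], nat_lit 0),
  ([nat_lit 0, nat_lit 4, nat_lit 0, nat_lit 4], nat_lit 0),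
  ([nat_lit 0, nat_lit 5, nat_lit 0, nat_lit 5], nat_lit 0),
  ([nat_lit 0, nat_lit 6, nat_lit 0, nat_lit 6], nat_lit 0),
  ([nat_lit 0, nat_lit 7, nat_lit 0, nat_lit 7], nat_lit 0),
  ([nat_lit 0, nat_lit 8, nat_lit 0, nat_lit 8], nat_lit 0),
  ([nat_lit 1, nat_lit 2, nat_lit 1, nat_lit 2, nat_lit 1, nat_lit 2], nat_lit 0),
  ([nat_lit 1, nat_lit 3, nat_lit 1, nat_lit 3], nat_lit 2),
  ([nat_lit 1, nat_lit 4, nat_lit 1, nat_lit 4], nat_lit 2),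
  ([nat_lit 1, nat_lit 5, nat_lit 1, nat_lit 5], nat_lit 2),
  ([nat_lit 1, nat_lit 6, nat_lit 1, nat_lit 6], nat_lit 2),
  ([nat_lit 1, nat_lit 7, nat_lit 1, nat_lit 7], nat_lit 2),
  ([nat_lit 1, nat_lit 8, nat_lit 1, nat_lit 8], nat_lit 2),
  ([nat_lit 2, nat_lit 3, nat_lit 2, nat_lit 3, nat_lit 2, nat_lit 3], nat_lit 0),
  ([nat_lit 2, nat_lit 4, nat_lit 2, nat_lit 4], nat_lit 0),
  ([nat_lit 2, nat_lit 5, nat_lit 2, nat_lit 5], nat_lit 0),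
  ([nat_lit 2, nat_lit 6, nat_lit 2, nat_lit 6], nat_lit 0),
  ([nat_lit 2, nat_lit 7, nat_lit 2, nat_lit 7], nat_lit 0),
  ([nat_lit 2, nat_lit 8, nat_lit 2, nat_lit 8], nat_lit 0),
  ([nat_lit 3, nat_lit 4, nat_lit 3, nat_lit 4, nat_lit 3, nat_lit 4], nat_lit 0),
  ([nat_lit 3, nat_lit 5, nat_lit 3, nat_lit 5], nat_lit 0),
  ([nat_lit 3, nat_lit 6, nat_lit 3, nat_lit 6], nat_lit 0),
  ([nat_lit 3, nat_lit 7, nat_lit 3, nat_lit 7, nat_lit 3, nat_lit 7], nat_lit 0),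
  ([nat_lit 3, nat_lit 8, nat_lit 3, nat_lit 8], nat_lit 0),
  ([nat_lit 4, nat_lit 5, nat_lit 4, nat_lit 5, nat_lit 4, nat_lit 5], nat_lit 0),
  ([nat_lit 4, nat_lit 6, nat_lit 4, nat_lit 6], nat_lit 0),
  ([nat_lit 4, nat_lit 7, nat_lit 4, nat_lit 7], nat_lit 0),
  ([nat_lit 4, nat_lit 8, nat_lit 4, nat_lit 8], nat_lit 0),
  ([nat_lit 5, nat_lit 6, nat_lit 5, nat_lit 6, nat_lit 5, nat_lit 6], nat_lit 0),
  ([nat_lit 5, nat_lit 7, nat_lit 5, nat_lit 7], nat_lit 0),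
  ([nat_lit 5, nat_lit 8, nat_lit 5, nat_lit 8], nat_lit 0),
  ([nat_lit 6, nat_lit 7, nat_lit 6, nat_lit 7], nat_lit 0),
  ([nat_lit 6, nat_lit 8, nat_lit 6, nat_lit 8], nat_lit 0),
  ([nat_lit 7, nat_lit 8, nat_lit 7, nat_lit 8, nat_lit 7, nat_lit 8], nat_lit 0),
  ([nat_lit 9, nat_lit 9, nat_lit 9, nat_lit 9, nat_lit 9, nat_lit 9, nat_lit 9, nat_lit 9, nat_lit 9, nat_lit 9], nat_lit 0),
  ([nat_lit 10, nat_lit 10, nat_lit 10, nat_lit 10, nat_lit 10, nat_lit 10, nat_lit 10, nat_lit 10, nat_lit 10], nat_lit 0),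
  ([nat_lit 11, nat_lit 11, nat_lit 11, nat_lit 11, nat_lit 11, nat_lit 11, nat_lit 11, nat_lit 11, nat_lit 11], nat_lit 0),
  ([nat_lit 9, nat_lit 8, nat_lit 7, nat_lit 3, nat_lit 5, nat_lit 4, nat_lit 3, nat_lit 1, nat_lit 2, nat_lit 3], nat_lit 0),
  ([nat_lit 10, nat_lit 7, nat_lit 5, nat_lit 4, nat_lit 3, nat_lit 2, nat_lit 1, nat_lit 0], nat_lit 0),
  ([nat_lit 11, nat_lit 7, nat_lit 6, nat_lit 5, nat_lit 4, nat_lit 3, nat_lit 2, nat_lit 1], nat_lit 0)]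

noncomputable def chk : ℕ → Bool := relChkL E (nat_lit 2) (nat_lit 3) (nat_lit 1) (nat_lit 3) (nat_lit 61776) [nat_lit 0, nat_lit 1, nat_lit 2, nat_lit 3, nat_lit 4, nat_lit 5, nat_lit 6, nat_lit 7, nat_lit 8, nat_lit 9, nat_lit 10, nat_lit 11] RL

end Cfsg.Agent.L0.Fi22Cov3
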